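import Cfsg.Agent.H773.Pw.Extra
import Cfsg.Agent.H513.AbTh
import Cfsg.Agent.H547.SelfCent.Base
import Cfsg.Agent.H844.Ore.BInv_m3
import Cfsg.Agent.Prune
set_option linter.all false
prune_inst 0x7f00000000000000000000000000000000000000000000000000000000000000000000000000000000000000000000000000000000000000000000000000000000000000000000000000000000000000003fffffffffffffffffffffffffffbeffbdffffffff
open scoped Cfsg.Agent.FastGrp

/-!
# `Th` for S2454 (helper829)

The centralizers of the elements of orders 19, 31, 13 of `Th` have orders 19, 31 and at most 39; every element of `Th`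
is a product of 6, 5, 5 elements of 13-, 19-, 31-power order.
-/

set_option autoImplicit false
set_option maxRecDepth 100000

namespace Cfsg.Agent.H829.Pw

open Subgroup Cfsg Cfsg.Agent.H514.DP Cfsg.Agent.H773.Pw

local notation "NT" => 90745943887872000

theorem th_finite : Finite Spor.Th := H513.NilpTh.finite

theorem th_card : Nat.card Spor.Th = NT := H513.NilpTh.card

/-- `r` divides the order of a centralizer: an element of order `r` -/
theorem exists_of_dvd {G : Type*} [Group G] [Finite G] {x : G} {r : ℕ} (hr : r.Prime)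
    (h : r ∣ Nat.card (centralizer ({x} : Set G))) : ∃ w : G, orderOf w = r ∧ w * x = x * w := by
  have := Fact.mk hr
  obtain ⟨w, hw⟩ := exists_prime_orderOf_dvd_card' (G := centralizer ({x} : Set G)) r h
  exact ⟨w, by rw [Subgroup.orderOf_coe, hw], mem_centralizer_singleton_iff.1 w.2⟩

theorem dvd_of_exists {G : Type*} [Group G] [Finite G] {x w : G} {r : ℕ} (hw : orderOf w = r) (h : w * x = x * w) :
    r ∣ Nat.card (centralizer ({x} : Set G)) := by
  have h1 := orderOf_dvd_natCard (⟨w, mem_centralizer_singleton_iff.2 h⟩ : centralizer ({x} : Set G))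
  rwa [Subgroup.orderOf_mk, hw] at h1

section

variable {f : Spor.Th →* Spor.BabyMonster} (hf : Function.Injective f)
include hf

/-- elements of orders 3 and `q` of `Th` do not commute -/
theorem th_nadj3 {q : ℕ} (hq : q ∈ [17, 19, 23, 31, 47]) {x : Spor.Th} (hx : orderOf x = q) :
    ¬ 3 ∣ Nat.card (centralizer ({x} : Set Spor.Th)) := by
  intro h
  have := th_finite
  obtain ⟨w, hw, hwx⟩ := exists_of_dvd Nat.prime_three h
  refine H979.OddB.nadj3 (L := Spor.BabyMonster) ⟨MulEquiv.refl _⟩ hq (x := f w) (y := f x) ?_ ?_ ?_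
  · rw [orderOf_injective f hf, hw]
  · rw [orderOf_injective f hf, hx]
  · rw [← map_mul, hwx, map_mul]

theorem th_arith {r : ℕ} (hr : r ∈ [19, 31]) {x : Spor.Th} (hx : orderOf x = r) :
    Nat.card (centralizer ({x} : Set Spor.Th)) ∣ 13 * 19 * 31 := by
  have h3 : ¬ 3 ∣ Nat.card (centralizer ({x} : Set Spor.Th)) := th_nadj3 hf (q := r) (by
    simp only [List.mem_cons, List.not_mem_nil, or_false] at hr ⊢
    rcases hr with rfl | rfl <;> simp) hx
  have h1 : Nat.card (centralizer ({x} : Set Spor.Th)) ∣ 3 ^ 10 * 13 * 19 * 31 := by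
    simp only [List.mem_cons, List.not_mem_nil, or_false] at hr
    rcases hr with rfl | rfl
    · exact H513.AbTh.cent_dvd' (by norm_num) hx (by norm_num) (by norm_num) (by norm_num)
    · exact H513.AbTh.cent_dvd' (by norm_num) hx (by norm_num) (by norm_num) (by norm_num)
  rw [show (3 ^ 10 * 13 * 19 * 31 : ℕ) = 3 ^ 10 * (13 * 19 * 31) by norm_num] at h1
  refine Nat.Coprime.dvd_of_dvd_mul_left ?_ h1
  exact Nat.Coprime.pow_right _ ((Nat.Prime.coprime_iff_not_dvd Nat.prime_three).2 h3).symm

end

theorem chk19 : ∀ c ∈ (13 * 19 * 31 : ℕ).divisors, ∀ e ∈ (18 : ℕ).divisors, 19 ∣ c →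
    NT / (c * e) % 19 = 1 → c = 19 ∧ e = 18 := by decide +kernel

theorem chk31 : ∀ c ∈ (13 * 19 * 31 : ℕ).divisors, ∀ e ∈ (30 : ℕ).divisors, 31 ∣ c →
    NT / (c * e) % 31 = 1 → c = 31 := by decide +kernel

section

variable {f : Spor.Th →* Spor.BabyMonster} (hf : Function.Injective f)
include hf

theorem th_cent19 {x : Spor.Th} (hx : orderOf x = 19) : Nat.card (centralizer ({x} : Set Spor.Th)) = 19 ∧
    Nat.card (normalizer (zpowers x : Set Spor.Th)) = 19 * 18 := by
  have := th_finite
  obtain ⟨e, he, -, h2, h3, -⟩ := H547.SelfCent.arith (G := Spor.Th) (r := 19) (by norm_num) hx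
    (by rw [th_card]; norm_num)
  rw [th_card] at h2
  obtain ⟨h4, h5⟩ := chk19 _ (Nat.mem_divisors.2 ⟨th_arith hf (by simp) hx, by norm_num⟩) e
    (Nat.mem_divisors.2 ⟨he, by norm_num⟩) (dvd_of_exists hx rfl) h2
  exact ⟨h4, by rw [h3, h4, h5]⟩

theorem th_cent31 {x : Spor.Th} (hx : orderOf x = 31) : Nat.card (centralizer ({x} : Set Spor.Th)) = 31 := by
  have := th_finite
  obtain ⟨e, he, -, h2, -, -⟩ := H547.SelfCent.arith (G := Spor.Th) (r := 31) (by norm_num) hx
    (by rw [th_card]; norm_num)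
  rw [th_card] at h2
  exact chk31 _ (Nat.mem_divisors.2 ⟨th_arith hf (by simp) hx, by norm_num⟩) e
    (Nat.mem_divisors.2 ⟨he, by norm_num⟩) (dvd_of_exists hx rfl) h2

/-- `9` does not divide the order of the centralizer of an element of order 13 -/
theorem th_not_nine {x : Spor.Th} (hx : orderOf x = 13) : ¬ 9 ∣ Nat.card (centralizer ({x} : Set Spor.Th)) := by
  intro h
  have hfin : Finite H630.Baby.Mon := MThirteen.Row.finite
  have hB : Nat.card Spor.BabyMonster = 4154781481226426191177580544000000 := NotCT.Orders.b ⟨MulEquiv.refl _⟩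
  have hfB : Finite Spor.BabyMonster := Nat.finite_of_card_ne_zero (by rw [hB]; norm_num)
  obtain ⟨t, y, ht, hy, hyt, hc⟩ := H630.Baby.exists_lift_card (L := Spor.BabyMonster) ⟨MulEquiv.refl _⟩
    (r := 13) (by norm_num) (by norm_num) (y := f x) (by rw [orderOf_injective f hf, hx])
  refine MThirteen.Row.not_nine LThreeMB.CoOneFin.coOne hy ht hyt ?_
  rw [hc]
  refine Dvd.dvd.mul_right ?_ 2
  refine h.trans ?_
  have h1 : (centralizer ({x} : Set Spor.Th)).map f ≤ centralizer ({f x} : Set Spor.BabyMonster) := by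
    rintro _ ⟨v, hv, rfl⟩
    rw [mem_centralizer_singleton_iff, ← map_mul, mem_centralizer_singleton_iff.1 hv, map_mul]
  have h2 := card_dvd_of_le h1
  rwa [card_map_of_injective hf] at h2

theorem th_cent13 {x : Spor.Th} (hx : orderOf x = 13) : Nat.card (centralizer ({x} : Set Spor.Th)) ≤ 39 := by
  have := th_finite
  have h1 : Nat.card (centralizer ({x} : Set Spor.Th)) ∣ 3 ^ 10 * 13 * 19 * 31 :=
    H513.AbTh.cent_dvd' (by norm_num) hx (by norm_num) (by norm_num) (by norm_num)
  have h19 : ¬ 19 ∣ Nat.card (centralizer ({x} : Set Spor.Th)) := by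
    intro h
    obtain ⟨w, hw, hwx⟩ := exists_of_dvd (by norm_num) h
    have h2 := dvd_of_exists hx hwx.symm
    rw [(th_cent19 hf hw).1] at h2
    norm_num at h2
  have h31 : ¬ 31 ∣ Nat.card (centralizer ({x} : Set Spor.Th)) := by
    intro h
    obtain ⟨w, hw, hwx⟩ := exists_of_dvd (by norm_num) h
    have h2 := dvd_of_exists hx hwx.symm
    rw [th_cent31 hf hw] at h2
    norm_num at h2
  have h9 := th_not_nine hf hx
  have h2 : Nat.card (centralizer ({x} : Set Spor.Th)) ∣ 3 ^ 10 * 13 := by
    refine Nat.Coprime.dvd_of_dvd_mul_right ?_ (h1.trans (by norm_num : 3 ^ 10 * 13 * 19 * 31 ∣ (3 ^ 10 * 13) * 589))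
    rw [show (589 : ℕ) = 19 * 31 by norm_num]
    exact Nat.Coprime.mul_right ((Nat.Prime.coprime_iff_not_dvd (by norm_num)).2 h19).symm
      ((Nat.Prime.coprime_iff_not_dvd (by norm_num)).2 h31).symm
  obtain ⟨a, b, ha, hb, hab⟩ := (Nat.dvd_mul).1 h2
  obtain ⟨j, -, rfl⟩ := (Nat.dvd_prime_pow Nat.prime_three).1 ha
  have h3 : j < 2 := by
    by_contra h4
    apply h9
    rw [← hab]
    exact (pow_dvd_pow 3 (not_lt.1 h4)).mul_right b
  have h4 := Nat.le_of_dvd (by norm_num) hb
  rw [← hab]
  interval_cases j <;> omega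

theorem th_minDeg : MinDeg Spor.Th 18 := by
  have := th_finite
  have := H513.AbTh.simple
  obtain ⟨y, hy⟩ := exists_order (K := Spor.Th) (l := 19) (by norm_num) (by rw [th_card]; norm_num)
  obtain ⟨h1, h2⟩ := th_cent19 hf hy
  refine minDeg_of_norm (H253.TC.not_comm_of_card th_card (by norm_num) (p := 19) (by norm_num) (by norm_num)
    (by norm_num)) (l := 19) (by norm_num) hy ?_
  rw [h2, show centralizer (zpowers y : Set Spor.Th) = centralizer ({y} : Set Spor.Th) by rw [zpowers_eq_closure, centralizer_closure], h1]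

theorem th_pw13 : PW 13 6 Spor.Th := by
  have := th_finite
  have := H513.AbTh.simple
  obtain ⟨y, hy⟩ := exists_order (K := Spor.Th) (l := 13) (by norm_num) (by rw [th_card]; norm_num)
  exact pw_of_pe (H253.TC.not_comm_of_card th_card (by norm_num) (p := 19) (by norm_num) (by norm_num)
    (by norm_num)) (IsPE.of_prime hy).pe (th_minDeg hf) (th_cent13 hf hy) (k := 6) (by norm_num) (by norm_num)
    (by norm_num)

theorem th_pw19 : PW 19 5 Spor.Th := by
  have := th_finite
  have := H513.AbTh.simple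
  obtain ⟨y, hy⟩ := exists_order (K := Spor.Th) (l := 19) (by norm_num) (by rw [th_card]; norm_num)
  exact pw_of_pe (H253.TC.not_comm_of_card th_card (by norm_num) (p := 19) (by norm_num) (by norm_num)
    (by norm_num)) (IsPE.of_prime hy).pe (th_minDeg hf) (th_cent19 hf hy).1.le (k := 5) (by norm_num) (by norm_num)
    (by norm_num)

theorem th_pw31 : PW 31 5 Spor.Th := by
  have := th_finite
  have := H513.AbTh.simple
  obtain ⟨y, hy⟩ := exists_order (K := Spor.Th) (l := 31) (by norm_num) (by rw [th_card]; norm_num)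
  exact pw_of_pe (H253.TC.not_comm_of_card th_card (by norm_num) (p := 19) (by norm_num) (by norm_num)
    (by norm_num)) (IsPE.of_prime hy).pe (th_minDeg hf) (th_cent31 hf hy).le (k := 5) (by norm_num) (by norm_num)
    (by norm_num)

end

end Cfsg.Agent.H829.Pw
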