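import Cfsg.Agent.H773.Pw.Extra
import Cfsg.Agent.H723.Pair.BChar
import Cfsg.Agent.Prune
set_option linter.all false
prune_inst 0x7f00000000000000000000000000000000000000000000000000000000000000000000000000000000000000000000000000000000000000000000000000000000000000000000000000000000000000003fffffffffffffffffffffffffffbeffbdffffffff
open scoped Cfsg.Agent.FastGrp

/-!
# Degrees of the Baby Monster for S2454 (helper829)
-/

set_option autoImplicit false

namespace Cfsg.Agent.H829.Pw

open Cfsg Subgroup Cfsg.Agent.H514.DP Cfsg.Agent.H773.Pw

/-- the irreducible complex representations of the Baby Monster of degree at least two have degree at least 4371 -/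
theorem minDeg_model : MinDeg Spor.BabyMonster 4371 := by
  intro k ρ hρ hk
  obtain ⟨g, hg⟩ := Cfsg.Agent.H121.Chr.exists_ne_one ρ hρ hk
  have h := H863.BMin.min_degree (F := ℂ) two_ne_zero ρ (by
    rintro rfl
    exact hg rfl)
  rwa [Module.finrank_fintype_fun_eq_card, Fintype.card_fin] at h

end Cfsg.Agent.H829.Pw
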